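import Cfsg.Agent.Lib.Cores.Fitting
import Cfsg.Agent.S0016

/-!
# Small facts for 2-groups with cyclic Sylow intersections (owner: helper73)

* `mem_zpowers_of_cyclic` : a cyclic subgroup has one subgroup of each order.
* `isCyclic_of_unique` : a 2-group with one involution and a central element of order 4 is cyclic.
* `exists_central_involution` : a 2-group with a central `v` of order 4 and an involution outside `⟨v⟩`
  has an involution `t` outside `⟨v⟩` all of whose conjugates are `t` or `t * v ^ 2`.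
-/

set_option autoImplicit false

namespace Cfsg.Agent.CyclicMeet

open Subgroup

variable {G : Type*} [Group G] [Finite G]

theorem mem_zpowers_of_cyclic (D : Subgroup G) [IsCyclic D] {v d : G} (hv : v ∈ D) (hd : d ∈ D)
    (h : orderOf d ∣ orderOf v) : d ∈ zpowers v := by
  classical
  have := Fintype.ofFinite D
  set v' : D := ⟨v, hv⟩
  set d' : D := ⟨d, hd⟩
  have hn : orderOf v' = orderOf v := Subgroup.orderOf_mk v hv
  let S : Finset D := {x | x ^ orderOf v' = 1}
  let T : Finset D := {x | x ∈ zpowers v'}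
  have hsub : T ⊆ S := fun x hx => by
    simp only [T, Finset.mem_filter, Finset.mem_univ, true_and] at hx
    simp only [S, Finset.mem_filter, Finset.mem_univ, true_and]
    exact orderOf_dvd_iff_pow_eq_one.1 (orderOf_dvd_of_mem_zpowers hx)
  have hcard : S.card ≤ T.card := by
    refine (IsCyclic.card_pow_eq_one_le (orderOf_pos v')).trans_eq ?_
    rw [← Nat.card_zpowers, Nat.card_eq_fintype_card, Fintype.card_subtype]
  have hmem : d' ∈ T := by
    rw [Finset.eq_of_subset_of_card_le hsub hcard]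
    simp only [S, Finset.mem_filter, Finset.mem_univ, true_and]
    rw [← orderOf_dvd_iff_pow_eq_one, hn, Subgroup.orderOf_mk]
    exact h
  simp only [T, Finset.mem_filter, Finset.mem_univ, true_and] at hmem
  obtain ⟨k, hk⟩ := mem_zpowers_iff.1 hmem
  exact mem_zpowers_iff.2 ⟨k, by simpa [v', d'] using congrArg Subtype.val hk⟩

theorem mem_zpowers_four {v x : G} (hv : orderOf v = 4) (hx : x ∈ zpowers v) (h : x * x = 1) :
    x = 1 ∨ x = v * v := by
  obtain ⟨k, hk⟩ := mem_zpowers_iff.1 hx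
  have h4 : v ^ (4 : ℤ) = 1 := by
    rw [show (4 : ℤ) = ((4 : ℕ) : ℤ) from rfl, zpow_natCast, ← hv, pow_orderOf_eq_one]
  have hd : ((4 : ℕ) : ℤ) ∣ k + k := by
    rw [← hv]
    exact orderOf_dvd_iff_zpow_eq_one.2 (by rw [zpow_add, hk, h])
  have hk2 : ∃ j, k = 4 * j ∨ k = 2 + 4 * j := ⟨k / 4, by omega⟩
  obtain ⟨j, rfl | rfl⟩ := hk2
  · left; rw [← hk, zpow_mul, h4, one_zpow]
  · right; rw [← hk, zpow_add, zpow_mul, h4, one_zpow, mul_one, zpow_two]

theorem sq_ne_one_of_orderOf_four {v : G} (hv : orderOf v = 4) : v * v ≠ 1 := fun h => by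
  have h2 := orderOf_dvd_of_pow_eq_one (show v ^ 2 = 1 by rw [sq, h])
  rw [hv] at h2
  exact absurd h2 (by decide)

theorem sq_mul_sq_of_orderOf_four {v : G} (hv : orderOf v = 4) : (v * v) * (v * v) = 1 := by
  have h := pow_orderOf_eq_one v
  rw [hv] at h
  rw [show v * v = v ^ 2 from (sq v).symm, ← pow_add]
  exact h

theorem isCyclic_of_unique {Q : Type*} [Group Q] [Finite Q] (hQ : IsPGroup 2 Q) {v : Q}
    (hc : v ∈ center Q) (hv : orderOf v = 4) (huniq : ∀ x : Q, x * x = 1 → x ∈ zpowers v) :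
    IsCyclic Q := by
  have : Fact (Nat.Prime 2) := ⟨Nat.prime_two⟩
  have h2 : ∀ H : Subgroup Q, Nat.card H = 2 → H = zpowers (v * v) := by
    intro H hH
    have hz : orderOf (v * v) = 2 :=
      orderOf_eq_prime (by rw [sq, sq_mul_sq_of_orderOf_four hv]) (sq_ne_one_of_orderOf_four hv)
    refine eq_of_le_of_card_ge (fun x hx => ?_) (by rw [hH, Nat.card_zpowers, hz])
    have hx2 : x * x = 1 := by
      have h := orderOf_dvd_natCard (⟨x, hx⟩ : H)
      rw [hH, Subgroup.orderOf_mk] at h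
      rw [← sq]
      exact orderOf_dvd_iff_pow_eq_one.1 h
    rcases mem_zpowers_four hv (huniq x hx2) hx2 with rfl | rfl
    · exact one_mem _
    · exact mem_zpowers _
  rcases S0016.result 2 hQ (fun H K hH hK => (h2 H hH).trans (h2 K hK).symm) with h | ⟨-, n, ⟨e⟩⟩
  · exact h
  rcases n with _ | n
  · refine isCyclic_of_orderOf_eq_card v ?_
    haveI : NeZero (2 ^ 0 : ℕ) := ⟨by norm_num⟩
    rw [hv, Nat.card_congr e.toEquiv, Nat.card_eq_fintype_card, QuaternionGroup.card, pow_zero, mul_one]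
  exfalso
  have hcomm : ∀ y, e v * y = y * e v := fun y => by
    obtain ⟨x, rfl⟩ := e.surjective y
    rw [← map_mul, ← map_mul, mem_center_iff.1 hc x]
  have hev : orderOf (e v) = 4 := (orderOf_injective e.toMonoidHom e.injective v).trans hv
  rcases hd : e v with i | i
  · have h := hcomm (QuaternionGroup.xa 0)
    rw [hd, QuaternionGroup.a_mul_xa, QuaternionGroup.xa_mul_a] at h
    rw [hd] at hev
    refine sq_ne_one_of_orderOf_four hev ?_
    rw [QuaternionGroup.a_mul_a, ← QuaternionGroup.a_zero]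
    injection h with h
    congr 1
    linear_combination (-1 : ZMod (2 * 2 ^ (n + 1))) * h
  · have h := hcomm (QuaternionGroup.a 1)
    rw [hd, QuaternionGroup.a_mul_xa, QuaternionGroup.xa_mul_a] at h
    injection h with h
    have h2' : ((2 : ℕ) : ZMod (2 * 2 ^ (n + 1))) = 0 := by push_cast; linear_combination h
    rw [ZMod.natCast_eq_zero_iff] at h2'
    have := Nat.le_of_dvd two_pos h2'
    have : 2 ≤ 2 ^ (n + 1) := le_self_pow₀ one_le_two (by omega)
    omega

/-- Auxiliary: an element whose product with its image under a power map `r ≡ 1 [4]` is trivial. -/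
theorem mul_self_eq_one_of_twist {x : G} {a : ℕ} (hx : orderOf x = 2 ^ a) {r : ℤ}
    (hr : (4 : ℤ) ∣ r - 1) (h : x * x ^ r = 1) : x * x = 1 := by
  obtain ⟨q, hq⟩ := hr
  have h1 : ((2 ^ a : ℕ) : ℤ) ∣ 2 * (2 * q + 1) := by
    rw [← hx]
    refine orderOf_dvd_iff_zpow_eq_one.2 ?_
    rw [show (2 : ℤ) * (2 * q + 1) = 1 + r by omega, zpow_add, zpow_one, h]
  have h2 : 2 ^ a ∣ 2 := by
    have hcop : IsCoprime ((2 ^ a : ℕ) : ℤ) (2 * q + 1) := by
      rw [Int.isCoprime_iff_nat_coprime, Int.natAbs_natCast]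
      refine Nat.Coprime.pow_left _ (Nat.prime_two.coprime_iff_not_dvd.2 fun hd => ?_)
      omega
    exact_mod_cast hcop.dvd_of_dvd_mul_right h1
  rw [← sq, ← orderOf_dvd_iff_pow_eq_one, hx]
  exact h2

theorem exists_central_involution {P : Type*} [Group P] [Finite P] (hP : IsPGroup 2 P) {v : P}
    (hc : v ∈ center P) (hv : orderOf v = 4) {t₁ : P} (ht₁ : t₁ * t₁ = 1) (ht₁v : t₁ ∉ zpowers v) :
    ∃ t : P, t * t = 1 ∧ t ∉ zpowers v ∧ ∀ s : P, s * t * s⁻¹ = t ∨ s * t * s⁻¹ = t * (v * v) := by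
  classical
  have : Fact (Nat.Prime 2) := ⟨Nat.prime_two⟩
  have hnil : Group.IsNilpotent P := hP.isNilpotent
  let Good : Set (Subgroup P) := {N | N.Normal ∧ v ∈ N ∧ ∃ t ∈ N, t * t = 1 ∧ t ∉ zpowers v}
  obtain ⟨N, hN⟩ := (Set.toFinite Good).exists_minimal
    ⟨⊤, inferInstance, mem_top _, t₁, mem_top _, ht₁, ht₁v⟩
  obtain ⟨⟨hNn, hvN, t, htN, ht, htv⟩, hmin⟩ := hN
  let Below : Set (Subgroup P) := {K | K.Normal ∧ v ∈ K ∧ K < N}
  have hZn : (zpowers v).Normal := ⟨fun m hm g => by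
    have hmc : m ∈ center P := zpowers_le.2 hc hm
    rwa [mem_center_iff.1 hmc g, mul_inv_cancel_right]⟩
  obtain ⟨K, hK⟩ := (Set.toFinite Below).exists_maximal
    ⟨zpowers v, hZn, mem_zpowers _,
      lt_of_le_of_ne (zpowers_le.2 hvN) fun he => htv (by rwa [he])⟩
  obtain ⟨⟨hKn, hvK, hKN⟩, hmax⟩ := hK
  have huK : ∀ x ∈ K, x * x = 1 → x ∈ zpowers v := by
    intro x hx hx2
    by_contra hxv
    exact hKN.not_ge (hmin ⟨hKn, hvK, x, hx, hx2, hxv⟩ hKN.le)
  have hcyc : IsCyclic K := by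
    refine isCyclic_of_unique (hP.to_subgroup K) (v := (⟨v, hvK⟩ : K))
      (mem_center_iff.2 fun x => Subtype.ext (mem_center_iff.1 hc x))
      (by rw [Subgroup.orderOf_mk]; exact hv) fun x hx => ?_
    obtain ⟨k, hk⟩ := mem_zpowers_iff.1 (huK x x.2 (congrArg Subtype.val hx))
    exact mem_zpowers_iff.2 ⟨k, Subtype.ext (by simpa using hk)⟩
  have htK : t ∉ K := fun h => htv (huK t h ht)
  -- every element of `N` outside `K` lies in `K t`
  have hcoset : ∀ x ∈ N, x ∉ K → x * t⁻¹ ∈ K := by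
    let f := QuotientGroup.mk' K
    have hne : N.map f ≠ ⊥ := by
      rw [Ne, Subgroup.map_eq_bot_iff, QuotientGroup.ker_mk']
      exact hKN.not_ge
    have : (N.map f).Normal := hNn.map _ (QuotientGroup.mk'_surjective K)
    have hQ : IsPGroup 2 (P ⧸ K) := hP.to_quotient K
    have : Group.IsNilpotent (P ⧸ K) := hQ.isNilpotent
    obtain ⟨d, hd, hd1⟩ := (bot_or_exists_ne_one _).resolve_left
      (Cores.inf_center_ne_bot (N.map f) hne)
    rw [mem_inf] at hd
    have hmid : zpowers d ≤ N.map f ⊓ center (P ⧸ K) := zpowers_le.2 (mem_inf.2 hd)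
    obtain ⟨k, hk, hk2⟩ : ∃ k ∈ zpowers d, orderOf k = 2 := by
      obtain ⟨m, hm⟩ := IsPGroup.iff_orderOf.1 hQ d
      have hm0 : m ≠ 0 := fun h => hd1 (orderOf_eq_one_iff.1 (by rw [hm, h, pow_zero]))
      refine ⟨d ^ 2 ^ (m - 1), Subgroup.pow_mem _ (mem_zpowers d) _, ?_⟩
      rw [orderOf_pow' _ (by positivity), hm, Nat.gcd_eq_right (pow_dvd_pow 2 (Nat.sub_le m 1)),
        Nat.pow_div (Nat.sub_le m 1) two_pos, show m - (m - 1) = 1 by omega, pow_one]
    have hkn : (zpowers k).Normal := ⟨fun a ha g => by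
      have hac : a ∈ center (P ⧸ K) := zpowers_le.2 (hmid hk).2 ha
      rwa [mem_center_iff.1 hac g, mul_inv_cancel_right]⟩
    have hpre : (zpowers k).comap f = N := by
      have h1 : (zpowers k).comap f ≤ N := by
        intro x hx
        obtain ⟨y, hy, hyx⟩ := (zpowers_le.2 (hmid hk).1 : zpowers k ≤ N.map f) hx
        have : x * y⁻¹ ∈ K := by
          rw [← QuotientGroup.eq_one_iff]
          show f (x * y⁻¹) = 1
          rw [map_mul, map_inv, hyx, mul_inv_cancel]
        simpa using N.mul_mem (hKN.le this) hy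
      refine le_antisymm h1 ?_
      by_contra hnot
      have hle : K ≤ (zpowers k).comap f := fun x hx => by
        show f x ∈ zpowers k
        rw [show f x = 1 from (QuotientGroup.eq_one_iff x).2 hx]
        exact one_mem _
      have := hmax ⟨hkn.comap f, hle hvK, lt_of_le_of_ne h1 fun he => hnot he.ge⟩ hle
      obtain ⟨y, rfl⟩ := QuotientGroup.mk'_surjective K k
      have hy : y ∈ K := this (mem_zpowers _)
      rw [show (QuotientGroup.mk' K) y = 1 from (QuotientGroup.eq_one_iff y).2 hy, orderOf_one] at hk2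
      exact absurd hk2 (by decide)
    have hval : ∀ x ∈ N, x ∉ K → f x = k := by
      intro x hx hxK
      have hx' : f x ∈ zpowers k := by rw [← hpre] at hx; exact hx
      obtain ⟨j, hj⟩ := mem_zpowers_iff.1 hx'
      rw [← hj, ← zpow_mod_orderOf, hk2]
      rcases Int.emod_two_eq j with h | h
      · exfalso
        refine hxK ((QuotientGroup.eq_one_iff x).1 ?_)
        show f x = 1
        rw [← hj, ← zpow_mod_orderOf, hk2]
        simp [h]
      · simp [h]
    intro x hx hxK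
    rw [← QuotientGroup.eq_one_iff]
    show f (x * t⁻¹) = 1
    rw [map_mul, map_inv, hval x hx hxK, hval t htN htK, mul_inv_cancel]
  refine ⟨t, ht, htv, fun s => ?_⟩
  have hmem : s * t * s⁻¹ ∈ N := hNn.conj_mem t htN s
  have hnK : s * t * s⁻¹ ∉ K := fun h => htK (by
    have := hKn.conj_mem _ h s⁻¹
    simpa [mul_assoc] using this)
  obtain ⟨x, hxK, hx⟩ : ∃ x ∈ K, s * t * s⁻¹ = x * t :=
    ⟨s * t * s⁻¹ * t⁻¹, hcoset _ hmem hnK, by group⟩
  obtain ⟨r, hr⟩ : ∃ r : ℤ, ∀ y ∈ K, t * y * t⁻¹ = y ^ r := by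
    obtain ⟨g, hg⟩ := IsCyclic.exists_generator (α := K)
    obtain ⟨r, hr⟩ := mem_zpowers_iff.1 (hg ⟨t * g * t⁻¹, hKn.conj_mem g g.2 t⟩)
    refine ⟨r, fun y hy => ?_⟩
    obtain ⟨j, hj⟩ := mem_zpowers_iff.1 (hg ⟨y, hy⟩)
    have hr' : (g : P) ^ r = t * g * t⁻¹ := by simpa using congrArg Subtype.val hr
    have hj' : (g : P) ^ j = y := by simpa using congrArg Subtype.val hj
    rw [← hj', ← conj_zpow, ← hr', ← zpow_mul, ← zpow_mul, mul_comm]
  have h4 : (4 : ℤ) ∣ r - 1 := by
    have h := hr v hvK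
    rw [mem_center_iff.1 hc t, mul_inv_cancel_right] at h
    have h' : ((orderOf v : ℕ) : ℤ) ∣ r - 1 :=
      orderOf_dvd_iff_zpow_eq_one.2 (by rw [zpow_sub, zpow_one, ← h, mul_inv_cancel])
    rw [hv] at h'
    exact_mod_cast h'
  have hsq : (x * t) * (x * t) = 1 := by
    rw [← hx, show s * t * s⁻¹ * (s * t * s⁻¹) = s * (t * t) * s⁻¹ by group, ht, mul_one,
      mul_inv_cancel]
  have htinv : t⁻¹ = t := inv_eq_of_mul_eq_one_right ht
  have hxr : x * x ^ r = 1 := by
    rw [← hr x hxK, htinv, ← hsq]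
    group
  obtain ⟨a, ha⟩ := IsPGroup.iff_orderOf.1 hP x
  have hx2 := mul_self_eq_one_of_twist ha h4 hxr
  rcases mem_zpowers_four hv (huK x hxK hx2) hx2 with rfl | rfl
  · left; rw [hx, one_mul]
  · right
    have hvc : t * v = v * t := mem_center_iff.1 hc t
    rw [hx, mul_assoc v v t, ← hvc, ← mul_assoc, ← hvc, mul_assoc]

end Cfsg.Agent.CyclicMeet
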