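import Cfsg.Agent.Lib.CyclicMeet.Basic
import Cfsg.Agent.Lib.Transfer.QuaternionFusion
import Cfsg.Agent.Lib.Cores.Basic
import Cfsg.Agent.Lib.Coprime.Invariant
import Cfsg.Agent.Lib.OddOrderTheorem.Basic

/-!
# Nonsolvable groups with cyclic Sylow 2-intersections (owner: helper73)

* `Setup` : `V` cyclic normal 2-subgroup, `v ∈ V` of order 4, no odd normal subgroup, the group nonsolvable.
* `Setup.Inv`, `Setup.Near` : involutions of `C(V)` outside `⟨v⟩`, up to multiplication by `v * v`.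
* `Setup.no_outer_sq_mem` : no 2-element outside `C(V)` has its square in `V`.
-/

set_option autoImplicit false

namespace Cfsg.Agent.CyclicMeet

open Subgroup
open scoped Pointwise

universe u

variable {G : Type u} [Group G] [Finite G]

instance factTwo : Fact (Nat.Prime 2) := ⟨Nat.prime_two⟩

/-- Any two distinct Sylow 2-subgroups meet in a cyclic group. -/
def MeetCyclic (G : Type u) [Group G] : Prop :=
  ∀ S T : Sylow 2 G, S ≠ T → IsCyclic ↥((S : Subgroup G) ⊓ (T : Subgroup G))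

theorem exists_two_sylow (hns : ¬ Group.IsSolvable G) (S : Sylow 2 G) : ∃ T : Sylow 2 G, T ≠ S := by
  by_contra hall
  push Not at hall
  haveI : Subsingleton (Sylow 2 G) := ⟨fun a b => (hall a).trans (hall b).symm⟩
  haveI : (S : Subgroup G).Normal := Sylow.normal_of_subsingleton S
  haveI : Group.IsNilpotent (S : Subgroup G) := S.isPGroup'.isNilpotent
  haveI : Group.IsSolvable (S : Subgroup G) := inferInstance
  haveI : Group.IsSolvable (G ⧸ (S : Subgroup G)) := OddOrderTheorem.solvable (by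
    rw [← index_eq_card]
    exact Nat.not_even_iff_odd.1 fun h => S.not_dvd_index (even_iff_two_dvd.1 h))
  exact hns ((Group.isSolvable_iff_subgroup_quotient (S : Subgroup G)).2 ⟨inferInstance, inferInstance⟩)

theorem isCyclic_of_normal_two (hC : MeetCyclic G) (hns : ¬ Group.IsSolvable G) (V : Subgroup G)
    [V.Normal] (hV : IsPGroup 2 V) : IsCyclic V := by
  obtain ⟨S⟩ : Nonempty (Sylow 2 G) := inferInstance
  obtain ⟨T, hT⟩ := exists_two_sylow hns S
  haveI := hC T S hT
  have hle : V ≤ (T : Subgroup G) ⊓ (S : Subgroup G) :=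
    le_inf (hV.le_sylow_of_normal T) (hV.le_sylow_of_normal S)
  exact isCyclic_of_injective (Subgroup.inclusion hle) (Subgroup.inclusion_injective hle)

/-- The standing hypotheses. -/
structure Setup (V : Subgroup G) (v : G) : Prop where
  normal : V.Normal
  cyclic : IsCyclic V
  two : IsPGroup 2 V
  mem : v ∈ V
  ord : orderOf v = 4
  meet : MeetCyclic G
  core : Cfsg.pPrimeCore 2 G = ⊥
  notSolvable : ¬ Group.IsSolvable G

namespace Setup

variable {V : Subgroup G} {v : G}

/-- The centralizer of `V`. -/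
abbrev C (_h : Setup V v) : Subgroup G := centralizer (V : Set G)

/-- An involution of `C(V)` outside `⟨v⟩`. -/
def Inv (_h : Setup V v) (t : G) : Prop :=
  t ∈ centralizer (V : Set G) ∧ t * t = 1 ∧ t ∉ zpowers v

/-- Equal up to the involution of `V`. -/
def Near (_h : Setup V v) (t t' : G) : Prop := t' = t ∨ t' = t * (v * v)

variable (h : Setup V v)
include h

theorem le_sylow (S : Sylow 2 G) : V ≤ (S : Subgroup G) :=
  haveI := h.normal
  h.two.le_sylow_of_normal S

theorem C_normal : (h.C).Normal := by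
  haveI := h.normal
  infer_instance

theorem zz : (v * v) * (v * v) = 1 := sq_mul_sq_of_orderOf_four h.ord

theorem z_mem : v * v ∈ V := V.mul_mem h.mem h.mem

theorem mem_C {g : G} : g ∈ h.C ↔ ∀ x ∈ V, x * g = g * x := mem_centralizer_iff

theorem commute_of_mem_V {x g : G} (hx : x ∈ V) (hg : g ∈ h.C) : x * g = g * x :=
  h.mem_C.1 hg x hx

theorem V_le_C : V ≤ h.C := fun a ha => h.mem_C.2 fun x hx => by
  haveI := h.cyclic
  haveI := IsCyclic.isMulCommutative (α := V)
  exact congrArg Subtype.val (mul_comm' (⟨x, hx⟩ : V) ⟨a, ha⟩)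

theorem v_mem_C : v ∈ h.C := h.V_le_C h.mem

theorem eq_of_V_sq {x : G} (hx : x ∈ V) (h2 : x * x = 1) : x = 1 ∨ x = v * v := by
  refine mem_zpowers_four h.ord ?_ h2
  haveI := h.cyclic
  refine mem_zpowers_of_cyclic V h.mem hx ?_
  rw [h.ord]
  exact (orderOf_dvd_of_pow_eq_one (show x ^ 2 = 1 by rw [sq, h2])).trans (by norm_num)

theorem conj_z (g : G) : g * (v * v) * g⁻¹ = v * v := by
  have hne := sq_ne_one_of_orderOf_four h.ord
  have hm : g * (v * v) * g⁻¹ ∈ V := h.normal.conj_mem _ h.z_mem g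
  rcases h.eq_of_V_sq hm (by
    rw [show g * (v * v) * g⁻¹ * (g * (v * v) * g⁻¹) = g * ((v * v) * (v * v)) * g⁻¹ by group, h.zz,
      mul_one, mul_inv_cancel]) with he | he
  · rw [mul_inv_eq_one, mul_eq_left] at he
    exact absurd he hne
  · exact he

theorem z_comm (g : G) : g * (v * v) = (v * v) * g := mul_inv_eq_iff_eq_mul.1 (h.conj_z g)

theorem conj_mem_zpowers {g x : G} (hx : x ∈ zpowers v) : g * x * g⁻¹ ∈ zpowers v := by
  haveI := h.cyclic
  refine mem_zpowers_of_cyclic V h.mem (h.normal.conj_mem _ (zpowers_le.2 h.mem hx) g) ?_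
  rw [show g * x * g⁻¹ = (MulAut.conj g).toMonoidHom x from rfl,
    orderOf_injective (MulAut.conj g).toMonoidHom (MulAut.conj g).injective x]
  exact orderOf_dvd_of_mem_zpowers hx

/-- An element killed by 4 outside `⟨v⟩` lies in one Sylow 2-subgroup only. -/
theorem sylow_unique {S T : Sylow 2 G} {d : G} (hS : d ∈ (S : Subgroup G)) (hT : d ∈ (T : Subgroup G))
    (hd : d ^ 4 = 1) (hdv : d ∉ zpowers v) : S = T := by
  by_contra hne
  haveI := h.meet S T hne
  refine hdv (mem_zpowers_of_cyclic ((S : Subgroup G) ⊓ (T : Subgroup G))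
    ⟨h.le_sylow S h.mem, h.le_sylow T h.mem⟩ ⟨hS, hT⟩ ?_)
  rw [h.ord]
  exact orderOf_dvd_of_pow_eq_one hd

theorem pow_four {t : G} (ht : t * t = 1) : t ^ 4 = 1 := by
  rw [show 4 = 2 * 2 from rfl, pow_mul, sq t, ht, one_pow]

/-- Two elements in two Sylow subgroups commute with `V`. -/
theorem mem_C_of_two {S T : Sylow 2 G} (hne : S ≠ T) {d : G} (hS : d ∈ (S : Subgroup G))
    (hT : d ∈ (T : Subgroup G)) : d ∈ h.C := by
  haveI := h.meet S T hne
  haveI := IsCyclic.isMulCommutative (α := ↥((S : Subgroup G) ⊓ (T : Subgroup G)))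
  exact h.mem_C.2 fun x hx => congrArg Subtype.val
    (mul_comm' (⟨x, ⟨h.le_sylow S hx, h.le_sylow T hx⟩⟩ : ↥((S : Subgroup G) ⊓ (T : Subgroup G)))
      ⟨d, hS, hT⟩)

omit h in
theorem mem_of_normalizes {P : Sylow 2 G} {g : G} (hg : IsPGroup 2 (zpowers g))
    (hn : g • P = P) : g ∈ (P : Subgroup G) := by
  have h2 : g ∈ zpowers g ⊓ normalizer ((P : Subgroup G) : Set G) :=
    ⟨mem_zpowers g, Sylow.smul_eq_iff_mem_normalizer.1 hn⟩
  have he := hg.inf_normalizer_sylow P
  exact ((le_of_eq he) h2).2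

omit h in
theorem conj_mem_smul {P : Sylow 2 G} {t : G} (g : G) (ht : t ∈ (P : Subgroup G)) :
    g * t * g⁻¹ ∈ ((g • P : Sylow 2 G) : Subgroup G) := by
  rw [Sylow.coe_subgroup_smul]
  exact Subgroup.smul_mem_pointwise_smul t (MulAut.conj g) _ ht

omit h in
theorem isPGroup_zpowers_of_mul_self {t : G} (ht : t * t = 1) : IsPGroup 2 (zpowers t) := fun x => by
  refine ⟨1, ?_⟩
  rw [pow_one]
  obtain ⟨k, hk⟩ := mem_zpowers_iff.1 x.2
  refine Subtype.ext ?_
  rw [SubgroupClass.coe_pow, ← hk, ← zpow_natCast, ← zpow_mul, mul_comm, zpow_mul,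
    zpow_natCast, sq, ht, one_zpow, OneMemClass.coe_one]

omit h in
theorem exists_sylow_mem {t : G} (ht : IsPGroup 2 (zpowers t)) : ∃ P : Sylow 2 G, t ∈ (P : Subgroup G) :=
  let ⟨P, hP⟩ := ht.exists_le_sylow
  ⟨P, hP (mem_zpowers t)⟩

theorem near_refl (t : G) : h.Near t t := Or.inl rfl

theorem near_symm {t t' : G} (hn : h.Near t t') : h.Near t' t := by
  rcases hn with rfl | rfl
  · exact Or.inl rfl
  · exact Or.inr (by rw [mul_assoc, h.zz, mul_one])

theorem near_trans {t t' t'' : G} (h1 : h.Near t t') (h2 : h.Near t' t'') : h.Near t t'' := by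
  rcases h1 with rfl | rfl
  · exact h2
  rcases h2 with rfl | rfl
  · exact Or.inr rfl
  · exact Or.inl (by rw [mul_assoc, h.zz, mul_one])

theorem near_conj (g : G) {t t' : G} (hn : h.Near t t') : h.Near (g * t * g⁻¹) (g * t' * g⁻¹) := by
  rcases hn with rfl | rfl
  · exact Or.inl rfl
  · refine Or.inr ?_
    conv_rhs => rw [← h.conj_z g]
    group

theorem inv_near {t t' : G} (ht : h.Inv t) (hn : h.Near t t') : h.Inv t' := by
  rcases hn with rfl | rfl
  · exact ht
  refine ⟨(h.C).mul_mem ht.1 (h.V_le_C h.z_mem), ?_, fun hm => ht.2.2 ?_⟩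
  · rw [mul_assoc t, ← mul_assoc (v * v) t, ← h.z_comm t, mul_assoc t (v * v), h.zz, mul_one, ht.2.1]
  · have := (zpowers v).mul_mem hm (show v * v ∈ zpowers v from mul_mem (mem_zpowers v) (mem_zpowers v))
    rwa [mul_assoc, h.zz, mul_one] at this

theorem inv_conj (g : G) {t : G} (ht : h.Inv t) : h.Inv (g * t * g⁻¹) := by
  refine ⟨h.C_normal.conj_mem t ht.1 g, ?_, fun hm => ht.2.2 ?_⟩
  · rw [show g * t * g⁻¹ * (g * t * g⁻¹) = g * (t * t) * g⁻¹ by group, ht.2.1, mul_one, mul_inv_cancel]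
  · have := h.conj_mem_zpowers (g := g⁻¹) hm
    simpa [mul_assoc] using this

theorem inv_unique {t : G} (ht : h.Inv t) {S T : Sylow 2 G} (hS : t ∈ (S : Subgroup G))
    (hT : t ∈ (T : Subgroup G)) : S = T :=
  h.sylow_unique hS hT (h.pow_four ht.2.1) ht.2.2

theorem near_mem {t t' : G} (hn : h.Near t t') {P : Sylow 2 G} (hP : t ∈ (P : Subgroup G)) :
    t' ∈ (P : Subgroup G) := by
  rcases hn with rfl | rfl
  · exact hP
  · exact mul_mem hP (h.le_sylow P h.z_mem)

theorem smul_eq_of_near {t t' g : G} (ht' : h.Inv t') {P Q : Sylow 2 G} (hP : t ∈ (P : Subgroup G))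
    (hQ : t' ∈ (Q : Subgroup G)) (hn : h.Near (g * t * g⁻¹) t') : g • P = Q :=
  h.inv_unique ht' (h.near_mem hn (conj_mem_smul g hP)) hQ

/-- Two such involutions in different Sylow subgroups are interchanged by an element of `C(V)`. -/
theorem exists_mid {t t' : G} (ht : h.Inv t) (ht' : h.Inv t') {P Q : Sylow 2 G}
    (hP : t ∈ (P : Subgroup G)) (hQ : t' ∈ (Q : Subgroup G)) (hne : P ≠ Q) :
    ∃ m ∈ h.C, h.Near (m * t * m⁻¹) t' ∧ h.Near (m * t' * m⁻¹) t := by
  have hti : t⁻¹ = t := inv_eq_of_mul_eq_one_right ht.2.1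
  have ht'i : t'⁻¹ = t' := inv_eq_of_mul_eq_one_right ht'.2.1
  set r := t * t' with hr
  have hrC : r ∈ h.C := (h.C).mul_mem ht.1 ht'.1
  have hrinv : t * r * t⁻¹ = r⁻¹ := by
    rw [hr, mul_inv_rev, ht'i, hti, ← mul_assoc t t t', ht.2.1, one_mul]
  have hrinv' : t' * r * t'⁻¹ = r⁻¹ := by
    rw [hr, mul_inv_rev, ht'i, hti, mul_assoc t' (t * t') t', mul_assoc t t' t', ht'.2.1, mul_one]
  suffices hodd : ∃ ε ∈ ({1, v * v} : Set G), ∃ k : ℕ, (r * ε) ^ (2 * k + 1) = 1 by
    obtain ⟨ε, hε, k, hk⟩ := hodd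
    set s := r * ε with hs
    have hεεc : ∀ g, g * ε = ε * g := by
      intro g
      rcases hε with rfl | rfl
      · simp
      · exact h.z_comm g
    have hεε : ε * ε = 1 := by
      rcases hε with rfl | rfl
      · simp
      · exact h.zz
    have hnear : ∀ x : G, h.Near x (x * ε) := by
      intro x
      rcases hε with rfl | rfl
      · exact Or.inl (mul_one x)
      · exact Or.inr rfl
    have hsC : s ∈ h.C := by
      refine (h.C).mul_mem hrC ?_
      rcases hε with rfl | rfl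
      · exact one_mem _
      · exact h.V_le_C h.z_mem
    have hsinv : t * s * t⁻¹ = s⁻¹ := by
      rw [hs, show t * (r * ε) * t⁻¹ = (t * r * t⁻¹) * (t * ε * t⁻¹) by group, hrinv, hεεc t,
        mul_assoc ε, mul_inv_cancel, mul_one, mul_inv_rev r ε, inv_eq_of_mul_eq_one_right hεε, hεεc]
    set q := s ^ (k + 1) with hq
    have hp : t * q * t⁻¹ = q⁻¹ := by rw [hq, ← conj_pow, hsinv, inv_pow]
    have h1 : q * q = s := by
      rw [hq, ← pow_add, show k + 1 + (k + 1) = (2 * k + 1) + 1 by omega, pow_succ, hk, one_mul]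
    have h2 : s⁻¹ * t⁻¹ = t * s := by
      rw [← hsinv, mul_assoc (t * s), hti, ht.2.1, mul_one]
    have hmm : (t * q) * (t * q) = 1 := by
      rw [show (t * q) * (t * q) = (t * q * t⁻¹) * (t * t) * q by group, hp, ht.2.1, mul_one,
        inv_mul_cancel]
    have hkey : t * q * t * (t * q)⁻¹ = t' * ε := by
      rw [show t * q * t * (t * q)⁻¹ = (t * q * t⁻¹) * (t * t) * q⁻¹ * t⁻¹ by group, hp, ht.2.1,
        mul_one, ← mul_inv_rev, h1, h2, hs, hr, ← mul_assoc, ← mul_assoc, ht.2.1, one_mul]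
    refine ⟨t * q, (h.C).mul_mem ht.1 ((h.C).pow_mem hsC _), ?_, ?_⟩
    · rw [hkey]
      exact h.near_symm (hnear t')
    · have hinv : (t * q)⁻¹ = t * q := inv_eq_of_mul_eq_one_right hmm
      have hconj : t * q * (t' * ε) * (t * q)⁻¹ = t := by
        rw [← hkey, hinv,
          show t * q * (t * q * t * (t * q)) * (t * q) = (t * q * (t * q)) * t * (t * q * (t * q)) by group,
          hmm, one_mul, mul_one]
      have hn := h.near_conj (t * q) (hnear t')
      rwa [hconj] at hn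
  -- some `r * ε` has odd order
  rcases Nat.even_or_odd (orderOf r) with ⟨l, hl⟩ | ⟨k, hk⟩
  swap
  · exact ⟨1, Or.inl rfl, k, by rw [mul_one, ← hk, pow_orderOf_eq_one]⟩
  have hl0 : 0 < l := by have := orderOf_pos r; omega
  have hc2 : r ^ l * r ^ l = 1 := by rw [← pow_add, ← hl, pow_orderOf_eq_one]
  have hc1 : r ^ l ≠ 1 := pow_ne_one_of_lt_orderOf hl0.ne' (by omega)
  have hfix : ∀ {a : G} {R : Sylow 2 G}, a * a = 1 → a ∈ (R : Subgroup G) → h.Inv a → ∀ {d : G},
      d ^ 4 = 1 → d ∉ zpowers v → ∀ {T : Sylow 2 G}, d ∈ (T : Subgroup G) →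
      a * d * a⁻¹ ∈ (T : Subgroup G) → T = R := by
    intro a R ha2 haR haI d hd hdv T hdT hadT
    have hTa : a • T = T := by
      refine h.sylow_unique (conj_mem_smul a hdT) hadT ?_ fun hm => hdv ?_
      · rw [conj_pow, hd, mul_one, mul_inv_cancel]
      · have := h.conj_mem_zpowers (g := a⁻¹) hm
        simpa [mul_assoc] using this
    exact h.inv_unique haI (mem_of_normalizes (isPGroup_zpowers_of_mul_self ha2) hTa) haR
  have hmain : ∀ {d : G}, d ^ 4 = 1 → (t * d * t⁻¹ = d⁻¹) → (t' * d * t'⁻¹ = d⁻¹) → d ∈ zpowers v := by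
    intro d hd hdt hdt'
    by_contra hdv
    obtain ⟨T, hT⟩ := exists_sylow_mem (G := G) (t := d)
      (IsPGroup.of_card (n := Nat.log 2 (orderOf d)) (by
        rw [Nat.card_zpowers]
        obtain ⟨j, hj, hjd⟩ := (Nat.dvd_prime_pow Nat.prime_two).1
          (show orderOf d ∣ 2 ^ 2 from orderOf_dvd_of_pow_eq_one hd)
        rw [hjd, Nat.log_pow one_lt_two]))
    refine hne ?_
    rw [← hfix ht.2.1 hP ht hd hdv hT (by rw [hdt]; exact inv_mem hT),
      ← hfix ht'.2.1 hQ ht' hd hdv hT (by rw [hdt']; exact inv_mem hT)]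
  have hcz : r ^ l = v * v := by
    have hcinv : (r ^ l)⁻¹ = r ^ l := inv_eq_of_mul_eq_one_right hc2
    have := hmain (h.pow_four hc2) (by rw [← conj_pow, hrinv, inv_pow])
      (by rw [← conj_pow, hrinv', inv_pow])
    exact (mem_zpowers_four h.ord this hc2).resolve_left hc1
  rcases Nat.even_or_odd l with ⟨j, hj⟩ | ⟨k, hk⟩
  · exfalso
    have hi4 : (r ^ j) ^ 4 = 1 := by
      rw [← pow_mul, show j * 4 = orderOf r by omega, pow_orderOf_eq_one]
    have hiv := hmain hi4 (by rw [← conj_pow, hrinv, inv_pow]) (by rw [← conj_pow, hrinv', inv_pow])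
    have hcomm : t * r ^ j * t⁻¹ = r ^ j := by
      rw [← h.commute_of_mem_V (zpowers_le.2 h.mem hiv) ht.1, mul_inv_cancel_right]
    rw [← conj_pow, hrinv, inv_pow] at hcomm
    exact hc1 (by
      rw [hj, pow_add]
      nth_rewrite 1 [← hcomm]
      exact inv_mul_cancel _)
  · refine ⟨v * v, Or.inr rfl, k, ?_⟩
    rw [(show Commute r (v * v) from h.z_comm r).mul_pow, ← hk, hcz, hk, pow_succ, pow_mul, sq, h.zz,
      one_pow, one_mul, h.zz]

end Setup

end Cfsg.Agent.CyclicMeet
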