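import Cfsg.Agent.Lib.CyclicMeet.Setup
import Cfsg.Agent.Lib.ZStar.Glauberman
import Cfsg.Agent.Lib.ZStarPrimePower.Proved

/-!
# The cyclic normal 2-subgroup is central (owner: helper73)

* `le_center` : in a nonsolvable group without odd normal subgroup whose Sylow 2-subgroups meet
  cyclically, the largest normal 2-subgroup is cyclic and central.
-/

set_option autoImplicit false

namespace Cfsg.Agent.CyclicMeet

open Subgroup
open scoped Pointwise

universe u

variable {G : Type u} [Group G] [Finite G]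

namespace Setup

variable {V : Subgroup G} {v : G} (h : Setup V v)
include h

theorem exists_power_map (g : G) : ∃ r : ℤ, ∀ x ∈ V, g * x * g⁻¹ = x ^ r := by
  haveI := h.cyclic
  obtain ⟨a, ha⟩ := IsCyclic.exists_generator (α := V)
  obtain ⟨r, hr⟩ := mem_zpowers_iff.1 (ha ⟨g * a * g⁻¹, h.normal.conj_mem a a.2 g⟩)
  refine ⟨r, fun x hx => ?_⟩
  obtain ⟨j, hj⟩ := mem_zpowers_iff.1 (ha ⟨x, hx⟩)
  have hr' : (a : G) ^ r = g * a * g⁻¹ := by simpa using congrArg Subtype.val hr
  have hj' : (a : G) ^ j = x := by simpa using congrArg Subtype.val hj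
  rw [← hj', ← conj_zpow, ← hr', ← zpow_mul, ← zpow_mul, mul_comm]

theorem commutator_mem_C (a b : G) : a * b * a⁻¹ * b⁻¹ ∈ h.C := by
  obtain ⟨r, hr⟩ := h.exists_power_map a
  obtain ⟨s, hs⟩ := h.exists_power_map b
  have hab : ∀ x ∈ V, (a * b) * x * (a * b)⁻¹ = (b * a) * x * (b * a)⁻¹ := by
    intro x hx
    rw [show (a * b) * x * (a * b)⁻¹ = a * (b * x * b⁻¹) * a⁻¹ by group, hs x hx,
      hr _ (V.zpow_mem hx s), show (b * a) * x * (b * a)⁻¹ = b * (a * x * a⁻¹) * b⁻¹ by group, hr x hx,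
      hs _ (V.zpow_mem hx r), ← zpow_mul, ← zpow_mul, mul_comm]
  refine h.mem_C.2 fun x hx => ?_
  have hy : (b * a)⁻¹ * x * (b * a) ∈ V := by
    have := h.normal.conj_mem x hx (b * a)⁻¹
    rwa [inv_inv] at this
  have hh := hab _ hy
  rw [show (b * a) * ((b * a)⁻¹ * x * (b * a)) * (b * a)⁻¹ = x by group] at hh
  calc x * (a * b * a⁻¹ * b⁻¹)
      = (a * b) * ((b * a)⁻¹ * x * (b * a)) * (a * b)⁻¹ * (a * b * a⁻¹ * b⁻¹) := by rw [hh]
    _ = a * b * a⁻¹ * b⁻¹ * x := by group

theorem mem_C_of_odd {g : G} (hg : Odd (orderOf g)) : g ∈ h.C := by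
  haveI := h.cyclic
  haveI := h.normal
  exact Transfer.centralizes_of_isPGroup_mulAut (Transfer.isPGroup_mulAut_of_isCyclic h.two)
    (by rw [normalizer_eq_top]; exact mem_top _) (Nat.coprime_two_right.2 hg)

theorem exists_two_pow_not_mem {g : G} (hg : g ∉ h.C) :
    ∃ j : ℕ, g ^ j ∉ h.C ∧ IsPGroup 2 (zpowers (g ^ j)) := by
  obtain ⟨k, m, hm, he⟩ := Nat.exists_eq_two_pow_mul_odd (orderOf_pos g).ne'
  refine ⟨m, fun hmem => hg ?_, IsPGroup.of_card (n := k) ?_⟩
  · have h2 : g ^ 2 ^ k ∈ h.C := h.mem_C_of_odd (by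
      rw [orderOf_pow' _ (by positivity), he, Nat.gcd_eq_right (dvd_mul_right _ _),
        Nat.mul_div_cancel_left _ (by positivity)]
      exact hm)
    have hcop : Nat.Coprime m (2 ^ k) := (Nat.coprime_two_right.2 hm).pow_right k
    have := (Int.gcd_eq_gcd_ab (m : ℤ) ((2 ^ k : ℕ) : ℤ)).symm
    rw [Int.gcd_natCast_natCast, hcop.gcd_eq_one] at this
    rw [← zpow_one g, ← Nat.cast_one, ← this, zpow_add, zpow_mul, zpow_mul, zpow_natCast, zpow_natCast]
    exact (h.C).mul_mem ((h.C).zpow_mem hmem _) ((h.C).zpow_mem h2 _)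
  · rw [Nat.card_zpowers, orderOf_pow' _ (Nat.ne_of_odd_add (n := 0) (by simpa using hm)).symm.symm, he,
      Nat.gcd_eq_right (dvd_mul_left _ _), Nat.mul_div_cancel _ hm.pos]

/-- Every Sylow 2-subgroup contains an involution of `C(V)` outside `⟨v⟩`. -/
theorem exists_inv_mem (P : Sylow 2 G) : ∃ t, h.Inv t ∧ t ∈ (P : Subgroup G) := by
  suffices hex : ∃ t, h.Inv t by
    obtain ⟨t, ht⟩ := hex
    obtain ⟨Q, hQ⟩ := exists_sylow_mem (isPGroup_zpowers_of_mul_self ht.2.1)
    obtain ⟨g, rfl⟩ := MulAction.exists_smul_eq G Q P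
    exact ⟨g * t * g⁻¹, h.inv_conj g ht, conj_mem_smul g hQ⟩
  by_contra hno
  push Not at hno
  haveI := h.C_normal
  let C := h.C
  obtain ⟨T⟩ : Nonempty (Sylow 2 C) := inferInstance
  set v' : C := ⟨v, h.v_mem_C⟩
  have hv' : orderOf v' = 4 := (Subgroup.orderOf_mk v h.v_mem_C).trans h.ord
  have hvc : v' ∈ center C := mem_center_iff.2 fun x =>
    Subtype.ext (h.commute_of_mem_V h.mem x.2).symm
  have hvT : v' ∈ (T : Subgroup C) := by
    haveI : (zpowers v').Normal := ⟨fun m hm g => by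
      have hmc : m ∈ center C := zpowers_le.2 hvc hm
      rwa [mem_center_iff.1 hmc g, mul_inv_cancel_right]⟩
    exact (IsPGroup.of_card (n := 2) (by rw [Nat.card_zpowers, hv']; rfl)).le_sylow_of_normal T
      (mem_zpowers _)
  have hcyc : IsCyclic (T : Subgroup C) := by
    refine isCyclic_of_unique T.isPGroup' (v := ⟨v', hvT⟩)
      (mem_center_iff.2 fun x => Subtype.ext (mem_center_iff.1 hvc x))
      (by rw [Subgroup.orderOf_mk]; exact hv') fun x hx => ?_
    have hx2 : ((x : C) : G) * ((x : C) : G) = 1 := by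
      have := congrArg (fun y : (T : Subgroup C) => ((y : C) : G)) hx
      simpa using this
    have hxv : ((x : C) : G) ∈ zpowers v := by
      by_contra hc
      exact hno _ ⟨(x : C).2, hx2, hc⟩
    obtain ⟨k, hk⟩ := mem_zpowers_iff.1 hxv
    exact mem_zpowers_iff.2 ⟨k, Subtype.ext (Subtype.ext (by simpa [v'] using hk))⟩
  have hp : (Nat.card C).minFac = 2 := (Nat.minFac_eq_two_iff _).2
    ((show 2 ∣ orderOf v' by rw [hv']; norm_num).trans (orderOf_dvd_natCard v'))
  have hcompl := IsCyclic.isComplement' hp hcyc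
  set K := (MonoidHom.transferSylow T (IsCyclic.normalizer_le_centralizer hp hcyc)).ker
  have hKodd : (Nat.card K).Coprime 2 := by
    rw [← hcompl.index_eq_card, Nat.coprime_two_right]
    exact Nat.not_even_iff_odd.1 fun he => T.not_dvd_index (even_iff_two_dvd.1 he)
  have hcore : Cfsg.pPrimeCore 2 C = ⊥ := by
    rw [← Subgroup.map_eq_bot_iff_of_injective _ (C.subtype_injective),
      Cores.pPrimeCore_map_subtype, h.core, bot_inf_eq]
  have hKbot : K = ⊥ := le_bot_iff.1 (hcore ▸ Cores.le_pPrimeCore inferInstance hKodd)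
  obtain ⟨n, hn⟩ := IsPGroup.iff_card.1 T.isPGroup'
  have hCcard : Nat.card C = 2 ^ n := by
    rw [← hcompl.card_mul, hKbot, Subgroup.card_bot, one_mul, hn]
  refine h.notSolvable ?_
  haveI : Group.IsNilpotent G := IsPGroup.isNilpotent (p := 2) fun g => by
    obtain ⟨k, m, hm, he⟩ := Nat.exists_eq_two_pow_mul_odd (orderOf_pos g).ne'
    refine ⟨k, ?_⟩
    have ho : orderOf (g ^ 2 ^ k) = m := by
      rw [orderOf_pow' _ (by positivity), he, Nat.gcd_eq_right (dvd_mul_right _ _),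
        Nat.mul_div_cancel_left _ (by positivity)]
    have hdvd := orderOf_dvd_natCard (⟨g ^ 2 ^ k, h.mem_C_of_odd (ho ▸ hm)⟩ : C)
    rw [Subgroup.orderOf_mk, ho, hCcard] at hdvd
    rw [← orderOf_eq_one_iff, ho]
    exact Nat.eq_one_of_dvd_coprimes ((Nat.coprime_two_right.2 hm).pow_right n) dvd_rfl hdvd
  infer_instance

/-- No 2-element outside `C(V)` has its square in `V`. -/
theorem no_outer_sq_mem {w : G} (hw : w ∉ h.C) (hw2 : IsPGroup 2 (zpowers w)) (hsq : w * w ∈ V) :
    False := by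
  obtain ⟨S, hS⟩ := exists_sylow_mem hw2
  obtain ⟨P, hPS⟩ := exists_two_sylow h.notSolvable S
  obtain ⟨t, ht, htP⟩ := h.exists_inv_mem P
  have hne : P ≠ w • P := fun he => hw (h.mem_C_of_two hPS (mem_of_normalizes hw2 he.symm) hS)
  have ht' : h.Inv (w * t * w⁻¹) := h.inv_conj w ht
  obtain ⟨m, hmC, hm1, hm2⟩ := h.exists_mid ht ht' htP (conj_mem_smul w htP) hne
  set u := m * w
  have hu1 : h.Near (u * t * u⁻¹) t := by
    rw [show u * t * u⁻¹ = m * (w * t * w⁻¹) * m⁻¹ by simp only [u]; group]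
    exact hm2
  have hu2 : h.Near (u * (w * t * w⁻¹) * u⁻¹) (w * t * w⁻¹) := by
    have hwt : w * w * t * (w * w)⁻¹ = t := by
      rw [h.commute_of_mem_V hsq ht.1, mul_inv_cancel_right]
    rw [show u * (w * t * w⁻¹) * u⁻¹ = m * (w * w * t * (w * w)⁻¹) * m⁻¹ by simp only [u]; group, hwt]
    exact hm1
  have huP : u • P = P := h.smul_eq_of_near ht htP htP hu1
  have huQ : u • (w • P) = w • P := h.smul_eq_of_near ht' (conj_mem_smul w htP) (conj_mem_smul w htP) hu2
  have huC : u ∉ h.C := fun hu => hw (by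
    have := (h.C).mul_mem ((h.C).inv_mem hmC) hu
    simpa [u] using this)
  obtain ⟨j, hjC, hj2⟩ := h.exists_two_pow_not_mem huC
  have fix : ∀ R : Sylow 2 G, u • R = R → u ^ j ∈ (R : Subgroup G) := fun R hR =>
    mem_of_normalizes hj2
      ((MulAction.stabilizer G R).pow_mem (MulAction.mem_stabilizer_iff.2 hR) j)
  exact hjC (h.mem_C_of_two hne (fix P huP) (fix (w • P) huQ))

/-- `V` is central, if it is the largest normal 2-subgroup. -/
theorem false_of_not_central (hnc : ¬ V ≤ center G)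
    (hmax : ∀ N : Subgroup G, N.Normal → IsPGroup 2 N → N ≤ V) : False := by
  haveI := h.normal
  haveI := h.C_normal
  obtain ⟨g0, hg0⟩ : ∃ g, g ∉ h.C := by
    by_contra hc
    push Not at hc
    exact hnc fun x hx => mem_center_iff.2 fun g => (h.commute_of_mem_V hx (hc g)).symm
  obtain ⟨j0, hj0, hj02⟩ := h.exists_two_pow_not_mem hg0
  obtain ⟨S, hwS⟩ := exists_sylow_mem hj02
  -- a complement `A` of `S` in its normalizer
  set N : Subgroup G := normalizer ((S : Subgroup G) : Set G) with hNdef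
  have hSN : (S : Subgroup G) ≤ N := le_normalizer
  let SN : Subgroup N := (S : Subgroup G).subgroupOf N
  haveI : SN.Normal := normal_in_normalizer
  have hcopS : Nat.Coprime (Nat.card SN) SN.index := (S.subtype hSN).card_coprime_index
  obtain ⟨A0, hA0⟩ := exists_right_complement'_of_coprime hcopS
  set A := A0.map N.subtype with hA
  have hAN : A ≤ N := map_subtype_le _
  have hcardA : Nat.card A = SN.index := by
    rw [hA, Nat.card_congr (A0.equivMapOfInjective _ N.subtype_injective).symm.toEquiv,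
      hA0.symm.index_eq_card]
  have hAodd : Odd (Nat.card A) := by
    rw [hcardA]
    exact Nat.not_even_iff_odd.1 fun he => (S.subtype hSN).not_dvd_index (even_iff_two_dvd.1 he)
  have hAC : A ≤ h.C := fun a ha => h.mem_C_of_odd (by
    refine hAodd.of_dvd_nat ?_
    rw [← Subgroup.orderOf_mk a ha]
    exact orderOf_dvd_natCard _)
  have hdec : ∀ x ∈ N, ∃ s ∈ (S : Subgroup G), ∃ a ∈ A, x = s * a := by
    intro x hx
    obtain ⟨⟨⟨s, hs⟩, ⟨a, ha⟩⟩, hsa⟩ := (hA0.existsUnique ⟨x, hx⟩).exists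
    exact ⟨s, mem_subgroupOf.1 hs, a, ⟨a, ha, rfl⟩, (congrArg Subtype.val hsa).symm⟩
  -- an element of `S` outside `C` centralised by `A`
  set S0 := (S : Subgroup G) ⊓ h.C
  obtain ⟨c, ⟨hcS, hcA⟩, hc0⟩ := Coprime.exists_mem_centralizer_of_coset (A := A) (K := (S : Subgroup G))
    hAN (by
      obtain ⟨k, hk⟩ := IsPGroup.iff_card.1 S.isPGroup'
      rw [hk]
      exact (Nat.coprime_two_right.2 hAodd).pow_right k)
    (Or.inr (by
      haveI : Group.IsNilpotent (S : Subgroup G) := S.isPGroup'.isNilpotent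
      infer_instance))
    (N := S0) inf_le_left (fun a ha => mem_normalizer_iff.2 fun x => by
      have hn := mem_normalizer_iff.1 (hAN ha) x
      refine ⟨fun hx => ⟨hn.1 hx.1, (h.C).mul_mem ((h.C).mul_mem (hAC ha) hx.2) ((h.C).inv_mem (hAC ha))⟩,
        fun hx => ⟨hn.2 hx.1, ?_⟩⟩
      have := (h.C).mul_mem ((h.C).mul_mem ((h.C).inv_mem (hAC ha)) hx.2) (hAC ha)
      simpa [mul_assoc] using this)
    (k := g0 ^ j0) hwS fun a ha => ⟨(S : Subgroup G).mul_mem
      ((mem_normalizer_iff.1 (hAN ha) _).1 hwS) ((S : Subgroup G).inv_mem hwS), h.commutator_mem_C a _⟩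
  have hcC : c ∉ h.C := fun hc => hj0 (by
    have := (h.C).mul_mem ((h.C).inv_mem hc0.2) hc
    simpa [mul_assoc] using this)
  have hcfix : ∀ a ∈ A, a * c * a⁻¹ = c := fun a ha => by
    rw [mem_centralizer_iff.1 hcA a ha, mul_inv_cancel_right]
  -- an involution fixed by `A`
  obtain ⟨i, hi, hiS, hifix⟩ : ∃ i, h.Inv i ∧ i ∈ (S : Subgroup G) ∧ ∀ a ∈ A, a * i * a⁻¹ = i := by
    have hex : ∃ j : ℕ, c ^ 2 ^ j ∈ V := by
      obtain ⟨j, hj⟩ := IsPGroup.iff_orderOf.1 S.isPGroup' ⟨c, hcS⟩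
      refine ⟨j, ?_⟩
      rw [← hj, Subgroup.orderOf_mk, pow_orderOf_eq_one]
      exact one_mem _
    classical
    have hspec := Nat.find_spec hex
    rcases hj : Nat.find hex with _ | j
    · rw [hj, pow_zero, pow_one] at hspec
      exact absurd (h.V_le_C hspec) hcC
    rw [hj, pow_succ, pow_mul, sq] at hspec
    have hxV : c ^ 2 ^ j ∉ V := fun hm => Nat.find_min hex (by omega) hm
    set x := c ^ 2 ^ j with hx
    have hxS : x ∈ (S : Subgroup G) := (S : Subgroup G).pow_mem hcS _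
    have hxC : x ∈ h.C := by
      by_contra hxC
      exact h.no_outer_sq_mem hxC (S.isPGroup'.to_le (zpowers_le.2 hxS)) hspec
    haveI := h.cyclic
    obtain ⟨e, he⟩ := IsCyclic.exists_generator (α := V)
    obtain ⟨k, hk⟩ := mem_zpowers_iff.1 (he ⟨x * x, hspec⟩)
    have hk' : (e : G) ^ k = x * x := by simpa using congrArg Subtype.val hk
    rcases Int.even_or_odd k with ⟨l, hl⟩ | hodd
    swap
    · exfalso
      obtain ⟨r, hr⟩ := IsPGroup.iff_orderOf.1 h.two e
      rw [← Subgroup.orderOf_coe] at hr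
      have hcop : IsCoprime k ((2 ^ r : ℕ) : ℤ) := by
        rw [Int.isCoprime_iff_nat_coprime, Int.natAbs_natCast]
        exact (Nat.coprime_two_right.2 (Int.natAbs_odd.2 hodd)).pow_right r
      obtain ⟨p, q, hpq⟩ := hcop
      have hcomm : Commute c ((e : G)) := by
        have h1 : Commute c ((e : G) ^ k) := by
          rw [hk', hx]
          exact ((Commute.refl c).pow_right _).mul_right ((Commute.refl c).pow_right _)
        have h2 := h1.zpow_right p
        have h3 : ((e : G) ^ k) ^ p = e := by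
          conv_rhs => rw [← zpow_one (e : G), ← hpq, zpow_add, mul_comm q, zpow_mul _ ((2 ^ r : ℕ) : ℤ),
            zpow_natCast, ← hr, pow_orderOf_eq_one, one_zpow, mul_one, mul_comm, zpow_mul]
        rwa [h3] at h2
      refine hcC (h.mem_C.2 fun y hy => ?_)
      obtain ⟨n, hn⟩ := mem_zpowers_iff.1 (he ⟨y, hy⟩)
      have hn' : (e : G) ^ n = y := by simpa using congrArg Subtype.val hn
      rw [← hn']
      exact ((hcomm.zpow_right n).eq).symm
    · set y := (e : G) ^ l with hy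
      have hyV : y ∈ V := V.zpow_mem e.2 l
      have hyy : y * y = x * x := by rw [hy, ← zpow_add, ← hl, hk']
      have hxy : y * x = x * y := h.commute_of_mem_V hyV hxC
      have hcxy : Commute x y⁻¹ := (show Commute x y from hxy.symm).inv_right
      refine ⟨x * y⁻¹, ⟨(h.C).mul_mem hxC ((h.C).inv_mem (h.V_le_C hyV)), ?_, fun hm => hxV ?_⟩,
        mul_mem hxS (inv_mem (h.le_sylow S hyV)), fun a ha => ?_⟩
      · rw [← sq, hcxy.mul_pow, sq, ← hyy, inv_pow, sq, mul_inv_cancel]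
      · have := V.mul_mem (zpowers_le.2 h.mem hm) hyV
        rwa [inv_mul_cancel_right] at this
      · rw [show a * (x * y⁻¹) * a⁻¹ = (a * x * a⁻¹) * (a * y * a⁻¹)⁻¹ by group,
          (h.commute_of_mem_V hyV (hAC ha)).symm, mul_inv_cancel_right, hx, ← conj_pow, hcfix a ha]
  -- transitivity on the involutions of `S`
  obtain ⟨P, hPS⟩ := exists_two_sylow h.notSolvable S
  obtain ⟨tP, htP, htPm⟩ := h.exists_inv_mem P
  have htrans : ∀ {t t1 : G}, h.Inv t → t ∈ (S : Subgroup G) → h.Inv t1 → t1 ∈ (S : Subgroup G) →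
      ∃ g ∈ h.C, g ∈ N ∧ h.Near (g * t1 * g⁻¹) t := by
    intro t t1 ht htS ht1 ht1S
    obtain ⟨m1, hm1, hn1, -⟩ := h.exists_mid ht1 htP ht1S htPm hPS.symm
    obtain ⟨m2, hm2, hn2, -⟩ := h.exists_mid htP ht htPm htS hPS
    have hn : h.Near ((m2 * m1) * t1 * (m2 * m1)⁻¹) t := by
      rw [show (m2 * m1) * t1 * (m2 * m1)⁻¹ = m2 * (m1 * t1 * m1⁻¹) * m2⁻¹ by group]
      exact h.near_trans (h.near_conj m2 hn1) hn2
    exact ⟨m2 * m1, (h.C).mul_mem hm2 hm1,
      Sylow.smul_eq_iff_mem_normalizer.1 (h.smul_eq_of_near ht ht1S htS hn), hn⟩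
  obtain ⟨t0, ht0, ht0S, ht0c⟩ : ∃ t0, h.Inv t0 ∧ t0 ∈ (S : Subgroup G) ∧
      ∀ s ∈ S0, h.Near (s * t0 * s⁻¹) t0 := by
    obtain ⟨t1, ht1, ht1S⟩ := h.exists_inv_mem S
    have hv0 : v ∈ S0 := ⟨h.le_sylow S h.mem, h.v_mem_C⟩
    obtain ⟨t, ht2, htv, htc⟩ := exists_central_involution (P := S0) (S.isPGroup'.to_le inf_le_left)
      (v := ⟨v, hv0⟩) (mem_center_iff.2 fun x => Subtype.ext (h.commute_of_mem_V h.mem x.2.2).symm)
      (by rw [Subgroup.orderOf_mk]; exact h.ord) (t₁ := ⟨t1, ht1S, ht1.1⟩) (Subtype.ext ht1.2.1)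
      (fun hm => ht1.2.2 (by
        obtain ⟨k, hk⟩ := mem_zpowers_iff.1 hm
        exact mem_zpowers_iff.2 ⟨k, by simpa using congrArg Subtype.val hk⟩))
    refine ⟨t, ⟨t.2.2, congrArg Subtype.val ht2, fun hm => htv ?_⟩, t.2.1, fun s hs => ?_⟩
    · obtain ⟨k, hk⟩ := mem_zpowers_iff.1 hm
      exact mem_zpowers_iff.2 ⟨k, Subtype.ext (by simpa using hk)⟩
    · refine h.near_symm ?_
      rcases htc ⟨s, hs⟩ with he | he
      · exact Or.inl (congrArg Subtype.val he)
      · exact Or.inr (congrArg Subtype.val he)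
  have hcentral : ∀ t, h.Inv t → t ∈ (S : Subgroup G) → ∀ s ∈ S0, h.Near (s * t * s⁻¹) t := by
    intro t ht htS s hs
    obtain ⟨g, hgC, hgN, hg⟩ := htrans ht htS ht0 ht0S
    have hs' : g⁻¹ * s * g ∈ S0 :=
      ⟨(mem_normalizer_iff.1 hgN _).2 (by
          rw [show g * (g⁻¹ * s * g) * g⁻¹ = s by group]; exact hs.1),
        (h.C).mul_mem ((h.C).mul_mem ((h.C).inv_mem hgC) hs.2) hgC⟩
    have h1 := h.near_conj g (ht0c _ hs')
    rw [show g * ((g⁻¹ * s * g) * t0 * (g⁻¹ * s * g)⁻¹) * g⁻¹ = s * (g * t0 * g⁻¹) * s⁻¹ by group] at h1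
    exact h.near_trans (h.near_conj s (h.near_symm hg)) (h.near_trans h1 hg)
  have hone : ∀ t, h.Inv t → t ∈ (S : Subgroup G) → h.Near i t := by
    intro t ht htS
    obtain ⟨g, hgC, hgN, hg⟩ := htrans ht htS hi hiS
    obtain ⟨s, hs, a, ha, rfl⟩ := hdec g hgN
    have hsC : s ∈ h.C := by
      have := (h.C).mul_mem hgC ((h.C).inv_mem (hAC ha))
      simpa using this
    rw [show s * a * i * (s * a)⁻¹ = s * (a * i * a⁻¹) * s⁻¹ by group, hifix a ha] at hg
    exact h.near_trans (h.near_symm (hcentral i hi hiS s ⟨hs, hsC⟩)) hg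
  -- `Z*` in `C / ⟨z⟩`
  let C := h.C
  set z : C := ⟨v * v, h.V_le_C h.z_mem⟩ with hz
  haveI hZn : (zpowers z).Normal := ⟨fun m hm g => by
    obtain ⟨k, rfl⟩ := mem_zpowers_iff.1 hm
    rw [← conj_zpow, show g * z * g⁻¹ = z from Subtype.ext (h.conj_z g)]
    exact zpow_mem (mem_zpowers z) k⟩
  have hmemz : ∀ x : C, x ∈ zpowers z ↔ x = 1 ∨ x = z := by
    intro x
    refine ⟨fun hx => ?_, fun hx => ?_⟩
    · obtain ⟨k, rfl⟩ := mem_zpowers_iff.1 hx
      have hzz : z ^ (2 : ℤ) = 1 := by rw [zpow_two]; exact Subtype.ext h.zz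
      rcases Int.even_or_odd' k with ⟨l, rfl | rfl⟩
      · left; rw [zpow_mul, hzz, one_zpow]
      · right; rw [zpow_add, zpow_mul, hzz, one_zpow, one_mul, zpow_one]
    · rcases hx with rfl | rfl
      · exact one_mem _
      · exact mem_zpowers _
  let f := QuotientGroup.mk' (zpowers z)
  have hnearf : ∀ x y : C, h.Near (x : G) y → f x = f y := by
    intro x y hxy
    refine (QuotientGroup.eq.2 ((hmemz _).2 ?_))
    rcases hxy with he | he
    · left; exact Subtype.ext (by push_cast; rw [he, inv_mul_cancel])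
    · right; exact Subtype.ext (by push_cast; rw [he, inv_mul_cancel_left])
  have hfnear : ∀ x y : C, f x = f y → h.Near (x : G) y := by
    intro x y hxy
    rcases (hmemz _).1 (QuotientGroup.eq.1 hxy) with he | he
    · exact Or.inl (congrArg Subtype.val (inv_mul_eq_one.1 he)).symm
    · exact Or.inr (congrArg Subtype.val (inv_mul_eq_iff_eq_mul.1 he))
  set i' : C := ⟨i, hi.1⟩
  have hfi : orderOf (f i') = 2 := by
    refine orderOf_eq_prime ?_ fun h1 => hi.2.2 ?_
    · rw [← map_pow, sq, show i' * i' = 1 from Subtype.ext hi.2.1, map_one]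
    · rcases (hmemz i').1 ((QuotientGroup.eq_one_iff i').1 h1) with he | he
      · rw [show i = 1 from congrArg Subtype.val he]; exact one_mem _
      · rw [show i = v * v from congrArg Subtype.val he]
        exact mul_mem (mem_zpowers v) (mem_zpowers v)
  have hiso : Cfsg.IsIsolatedInvolution (f i') := by
    refine ⟨hfi, fun g hg => ?_⟩
    obtain ⟨g, rfl⟩ := QuotientGroup.mk'_surjective _ g
    set w : C := g * i' * g⁻¹ with hw
    have hfw : f g * f i' * (f g)⁻¹ = f w := by simp [w]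
    show f g * f i' * (f g)⁻¹ = f i'
    rw [show (QuotientGroup.mk' (zpowers z)) g = f g from rfl, hfw] at hg
    rw [hfw]
    have hn : h.Near (i * w * i⁻¹) (w : G) := hfnear (i' * w * i'⁻¹) w (by
      rw [map_mul, map_mul, map_inv, hg.eq, mul_inv_cancel_right])
    have hwI : h.Inv (w : G) := h.inv_conj _ hi
    have hwR : (w : G) ∈ (((g : G) • S : Sylow 2 G) : Subgroup G) := conj_mem_smul _ hiS
    have hiR : i • ((g : G) • S) = (g : G) • S := h.smul_eq_of_near hwI hwR hwR hn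
    have hiR' := mem_of_normalizes (isPGroup_zpowers_of_mul_self hi.2.1) hiR
    rw [h.inv_unique hi hiR' hiS] at hwR
    exact (hnearf i' w (hone _ hwI hwR)).symm
  have hcommz := ZStar.zStar_of_brauerSuzuki ZStarPrimePower.uniqueInvolutionZStar_proved hiso
  -- the odd core of the quotient is trivial
  have hO : Cfsg.pPrimeCore 2 (C ⧸ zpowers z) = ⊥ := by
    set O := Cfsg.pPrimeCore 2 (C ⧸ zpowers z) with hOdef
    have hOodd : Odd (Nat.card O) := Nat.coprime_two_right.1 (Cores.coprime_card_pPrimeCore 2)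
    set m := Nat.card O
    let M := O.comap f
    have hzc : ∀ x : C, z * x = x * z := fun x => Subtype.ext (h.z_comm x).symm
    have hpow : ∀ x ∈ M, x ^ m = 1 ∨ x ^ m = z := fun x hx => (hmemz _).1 ((QuotientGroup.eq_one_iff _).1 (by
      show f (x ^ m) = 1
      rw [map_pow, ← orderOf_dvd_iff_pow_eq_one, ← Subgroup.orderOf_mk (f x) (show f x ∈ O from hx)]
      exact orderOf_dvd_natCard _))
    have hcore : Cfsg.pPrimeCore 2 C = ⊥ := by
      rw [← Subgroup.map_eq_bot_iff_of_injective _ (C.subtype_injective),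
        Cores.pPrimeCore_map_subtype, h.core, bot_inf_eq]
    -- a complement of `⟨z⟩` in `M` is normal in `C`
    let ZM := (zpowers z).subgroupOf M
    have hzM : z ∈ M := by
      show f z ∈ O
      rw [show f z = 1 from (QuotientGroup.eq_one_iff z).2 (mem_zpowers z)]
      exact one_mem _
    have hzle : zpowers z ≤ M := zpowers_le.2 hzM
    have hz2 : orderOf z = 2 := orderOf_eq_prime (by rw [sq]; exact Subtype.ext h.zz) fun h1 =>
      sq_ne_one_of_orderOf_four h.ord (congrArg Subtype.val h1)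
    have hZM : Nat.card ZM = 2 := by
      rw [Nat.card_congr (subgroupOfEquivOfLe hzle).toEquiv, Nat.card_zpowers, hz2]
    have hcardM : Nat.card M = m * 2 := by
      have h1 := Cores.card_map_mul_ker f M (by rw [QuotientGroup.ker_mk']; exact hzle)
      rw [show M.map f = O from map_comap_eq_self_of_surjective (QuotientGroup.mk'_surjective _) O,
        QuotientGroup.ker_mk', Nat.card_zpowers, hz2] at h1
      exact h1.symm
    have hidx : ZM.index = m := by
      have := ZM.card_mul_index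
      rw [hZM, hcardM] at this
      omega
    obtain ⟨K, hK⟩ := exists_right_complement'_of_coprime (N := ZM)
      (by rw [hZM, hidx, Nat.coprime_two_left]; exact hOodd)
    set K' := K.map M.subtype
    have hKcard : Nat.card K' = m := by
      rw [Nat.card_congr (K.equivMapOfInjective _ M.subtype_injective).symm.toEquiv,
        ← hK.symm.index_eq_card, hidx]
    have hK'iff : ∀ x : C, x ∈ K' ↔ x ∈ M ∧ x ^ m = 1 := by
      intro x
      have hKpow : ∀ y ∈ K', y ^ m = 1 := fun y hy => by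
        rw [← hKcard, ← orderOf_dvd_iff_pow_eq_one, ← Subgroup.orderOf_mk y hy]
        exact orderOf_dvd_natCard _
      refine ⟨fun hx => ⟨map_subtype_le _ hx, hKpow x hx⟩, fun ⟨hxM, hxm⟩ => ?_⟩
      obtain ⟨⟨⟨a, ha⟩, ⟨b, hb⟩⟩, hab⟩ := (hK.existsUnique ⟨x, hxM⟩).exists
      have hab' : (a : C) * (b : C) = x := congrArg Subtype.val hab
      have hbK : (b : C) ∈ K' := ⟨b, hb, rfl⟩
      rcases (hmemz _).1 (mem_subgroupOf.1 ha) with he | he
      · rw [he, one_mul] at hab'
        rw [← hab']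
        exact hbK
      · exfalso
        rw [he] at hab'
        have : x ^ m = z := by
          rw [← hab', (show Commute z (b : C) from hzc _).mul_pow, hKpow _ hbK, mul_one]
          obtain ⟨l, hl⟩ := hOodd
          rw [show m = 2 * l + 1 from hl, pow_succ, pow_mul, ← hz2, pow_orderOf_eq_one, one_pow, one_mul]
        rw [hxm] at this
        rw [← this, orderOf_one] at hz2
        exact absurd hz2 (by decide)
    have hK'n : K'.Normal := ⟨fun x hx g => by
      obtain ⟨hxM, hxm⟩ := (hK'iff x).1 hx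
      refine (hK'iff _).2 ⟨(inferInstance : M.Normal).conj_mem x hxM g, ?_⟩
      rw [conj_pow, hxm, mul_one, mul_inv_cancel]⟩
    have : K' = ⊥ := le_bot_iff.1 (hcore ▸ Cores.le_pPrimeCore hK'n
      (by rw [hKcard, Nat.coprime_two_right]; exact hOodd))
    rw [this, Subgroup.card_bot] at hKcard
    exact Subgroup.eq_bot_of_card_eq _ hKcard.symm
  have hCS : ∀ x ∈ h.C, x ∈ N := by
    intro x hx
    have h1 := hcommz (f ⟨x, hx⟩)
    rw [hO, mem_bot, ← map_inv, ← map_inv, ← map_mul, ← map_mul, ← map_mul] at h1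
    have h2 : f (⟨x, hx⟩ * i' * (⟨x, hx⟩ : C)⁻¹) = f i' := by
      simp only [map_mul, map_inv] at h1 ⊢
      rw [mul_inv_eq_one, mul_inv_eq_iff_eq_mul] at h1
      rw [← h1, mul_inv_cancel_right]
    exact Sylow.smul_eq_iff_mem_normalizer.1 (h.smul_eq_of_near hi hiS hiS (hfnear _ _ h2))
  have hnormal : S0.Normal := ⟨fun x hx g => by
    have hgC : g * x * g⁻¹ ∈ h.C := h.C_normal.conj_mem x hx.2 g
    have h2 : IsPGroup 2 (zpowers (g * x * g⁻¹)) :=
      (g • S).isPGroup'.to_le (zpowers_le.2 (conj_mem_smul g hx.1))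
    exact ⟨mem_of_normalizes h2 (Sylow.smul_eq_iff_mem_normalizer.2 (hCS _ hgC)), hgC⟩⟩
  have hiV : i ∈ V := hmax S0 hnormal (S.isPGroup'.to_le inf_le_left) ⟨hiS, hi.1⟩
  rcases h.eq_of_V_sq hiV hi.2.1 with rfl | rfl
  · exact hi.2.2 (one_mem _)
  · exact hi.2.2 (mul_mem (mem_zpowers v) (mem_zpowers v))

end Setup

/-- The largest normal 2-subgroup is cyclic and central. -/
theorem pCore_central (hC : MeetCyclic G) (hns : ¬ Group.IsSolvable G)
    (hO : Cfsg.pPrimeCore 2 G = ⊥) :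
    IsCyclic (Cfsg.pCore 2 G) ∧ Cfsg.pCore 2 G ≤ center G := by
  set V := Cfsg.pCore 2 G with hVdef
  haveI hVn : V.Normal := pCore_normal 2 G
  have hV2 : IsPGroup 2 V := Cores.isPGroup_pCore 2 G
  have hcyc := isCyclic_of_normal_two hC hns V hV2
  refine ⟨hcyc, ?_⟩
  by_contra hnc
  obtain ⟨k, hk⟩ := IsPGroup.iff_card.1 hV2
  obtain ⟨e, he⟩ := IsCyclic.exists_ofOrder_eq_natCard (α := V)
  rcases Nat.lt_or_ge k 2 with hk2 | hk2
  · refine hnc fun x hx => mem_center_iff.2 fun g => ?_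
    by_cases hx1 : x = 1
    · rw [hx1, mul_one, one_mul]
    have hk1 : Nat.card V = 2 := by
      rcases Nat.lt_or_ge k 1 with h0 | h0
      · exfalso
        rw [show k = 0 by omega, pow_zero, Subgroup.card_eq_one] at hk
        rw [hk, mem_bot] at hx
        exact hx1 hx
      · rw [hk, show k = 1 by omega, pow_one]
    have hconj : g * x * g⁻¹ ∈ V := hVn.conj_mem x hx g
    have : g * x * g⁻¹ = x := by
      by_contra hne
      obtain ⟨a, b, hab, huniv⟩ := Nat.card_eq_two_iff.1 hk1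
      have m1 := huniv.ge (Set.mem_univ (1 : V))
      have m2 := huniv.ge (Set.mem_univ (⟨x, hx⟩ : V))
      have m3 := huniv.ge (Set.mem_univ (⟨g * x * g⁻¹, hconj⟩ : V))
      have n1 : (⟨x, hx⟩ : V) ≠ 1 := fun he => hx1 (congrArg Subtype.val he)
      have n2 : (⟨g * x * g⁻¹, hconj⟩ : V) ≠ 1 := fun he => hx1 (by
        have he' : g * x * g⁻¹ = 1 := congrArg Subtype.val he
        rwa [mul_inv_eq_one, mul_eq_left] at he')
      have n3 : (⟨g * x * g⁻¹, hconj⟩ : V) ≠ ⟨x, hx⟩ := fun he => hne (congrArg Subtype.val he)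
      simp only [Set.mem_insert_iff, Set.mem_singleton_iff] at m1 m2 m3
      rcases m1 with rfl | rfl <;> rcases m2 with h2 | h2 <;> rcases m3 with h3 | h3 <;>
        first
        | exact n1 h2
        | exact n2 h3
        | exact n3 (h3.trans h2.symm)
    exact mul_inv_eq_iff_eq_mul.1 this
  · have h4 : 4 ∣ orderOf (e : G) := by
      rw [Subgroup.orderOf_coe, he, hk, show (4 : ℕ) = 2 ^ 2 by norm_num]
      exact pow_dvd_pow 2 hk2
    obtain ⟨d, hd⟩ := h4
    have hpos := orderOf_pos (e : G)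
    have hd0 : d ≠ 0 := fun h0 => by rw [hd, h0, mul_zero] at hpos; exact lt_irrefl 0 hpos
    have hord : orderOf ((e : G) ^ d) = 4 := by
      rw [orderOf_pow' _ hd0, hd, Nat.gcd_eq_right (dvd_mul_left _ _),
        Nat.mul_div_cancel _ (Nat.pos_of_ne_zero hd0)]
    exact Setup.false_of_not_central (V := V) (v := (e : G) ^ d)
      ⟨hVn, hcyc, hV2, V.pow_mem e.2 d, hord, hC, hO, hns⟩ hnc fun N hN h2 => Cores.le_pCore hN h2

end Cfsg.Agent.CyclicMeet
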